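import Cfsg.Agent.S0713
import Cfsg.Agent.Lib.HallSym.Full
import Cfsg.Agent.Lib.SylvesterSchur.Basic

/-!
# Derangements of largest prime order in primitive actions of alternating and symmetric groups
-/

set_option autoImplicit false
set_option linter.style.haveILetI false

open Equiv
open scoped Pointwise

namespace Cfsg.Agent.Lib.AltDerange

theorem le_ncard_of_smul_ne {Γ X : Type*} [Group Γ] [MulAction Γ X] {r : ℕ} (hr : r.Prime)
    {g : Γ} (hg : g ^ r = 1) {x : X} (hx : g • x ≠ x) {S : Set X} (hS : S.Finite)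
    (hmem : ∀ i : ℕ, g ^ i • x ∈ S) : r ≤ S.ncard := by
  haveI := Fact.mk hr
  have hper : Function.minimalPeriod (g • ·) x = r := by
    refine Function.minimalPeriod_eq_prime ?_ hx
    rw [Function.IsPeriodicPt, Function.IsFixedPt, smul_iterate, hg]
    exact one_smul _ _
  have hinj : Function.Injective fun i : Fin r => g ^ (i : ℕ) • x := by
    intro i j h
    refine Fin.ext ?_
    have h1 : (g • ·)^[(i : ℕ)] x = (g • ·)^[(j : ℕ)] x := by
      simpa only [smul_iterate_apply] using h
    exact Function.iterate_injOn_Iio_minimalPeriod (by simp [hper]) (by simp [hper]) h1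
  haveI := hS.to_subtype
  have := Nat.card_le_card_of_injective (fun i : Fin r => (⟨_, hmem i⟩ : S))
    fun i j h => hinj (congrArg Subtype.val h)
  rwa [Nat.card_fin, Nat.card_coe_set_eq] at this

/-- An element of order `p` fixes every block of a block system with fewer than `p` blocks of size
less than `p`, hence is trivial. -/
theorem eq_one_of_block {X : Type*} [Finite X] (H : Subgroup (Perm X)) [MulAction.IsPretransitive H X]
    {B : Set X} (hB : MulAction.IsBlock H B) (hne : B.Nonempty) {p : ℕ} (hp : p.Prime)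
    (hsize : B.ncard < p) (hnum : (MulAction.orbit H B).ncard < p)
    {h : H} (hh : h ^ p = 1) : h = 1 := by
  by_contra hne1
  obtain ⟨x, hx⟩ : ∃ x : X, h • x ≠ x := by
    by_contra hc
    push Not at hc
    exact hne1 (Subtype.ext (Perm.ext hc))
  obtain ⟨b, hb⟩ := hne
  obtain ⟨g, hg⟩ := MulAction.exists_smul_eq H b x
  have hfix : h • (g • B) = g • B := by
    by_contra hc
    refine absurd (le_ncard_of_smul_ne hp hh hc (Set.toFinite _) fun i => ?_) (not_le.2 hnum)
    exact ⟨h ^ i * g, mul_smul _ _ _⟩
  have hstab : ∀ i : ℕ, h ^ i • (g • B) = g • B := by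
    intro i
    induction i with
    | zero => simp
    | succ i ih => rw [pow_succ, mul_smul, hfix, ih]
  refine absurd (le_ncard_of_smul_ne hp hh hx (Set.toFinite (g • B)) fun i => ?_)
    (not_le.2 (by rwa [Set.ncard_smul_set]))
  rw [← hstab i, Set.smul_mem_smul_set_iff, ← hg, Set.smul_mem_smul_set_iff]
  exact hb

theorem mod_lt_of_dvd_choose {r m k : ℕ} (hr : r.Prime) (hkr : k < r) (hd : r ∣ m.choose k) :
    m % r < k := by
  by_contra hc
  have h : r ∣ m.descFactorial k := by
    rw [Nat.descFactorial_eq_factorial_mul_choose]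
    exact hd.mul_left _
  rw [Nat.descFactorial_eq_prod_range] at h
  obtain ⟨i, hi, hri⟩ := hr.prime.exists_mem_finset_dvd h
  rw [Finset.mem_range] at hi
  obtain ⟨c, hc'⟩ := hri
  have h1 := Nat.div_add_mod m r
  have h2 : m % r < r := Nat.mod_lt m hr.pos
  have him : i ≤ m := (hi.le.trans (not_lt.1 hc)).trans (Nat.mod_le m r)
  have h3 : m % r = (r * c + i) % r := by congr 1; omega
  rw [Nat.mul_add_mod, Nat.mod_eq_of_lt (hi.trans hkr)] at h3
  omega

theorem choose_one_le {m k : ℕ} (hk0 : 0 < k) (hk2 : 2 * k ≤ m) : m.choose 1 ≤ m.choose k := by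
  induction k, hk0 using Nat.le_induction with
  | base => exact le_rfl
  | succ j hj ih => exact (ih (by omega)).trans (Nat.choose_le_succ_of_lt_half_left (by omega))

variable {m : ℕ}

/-- The main theorem, for a maximal subgroup `H` of `P` with `A_m ≤ P ≤ S_m`. -/
theorem exists_derangement (hm : 5 ≤ m) (P H : Subgroup (Perm (Fin m)))
    (hP : alternatingGroup (Fin m) ≤ P) (hHP : H ≤ P) (hmax : ∀ K, H ≤ K → K ≤ P → K ≠ P → K = H)
    (hA : ¬ alternatingGroup (Fin m) ≤ H) {r : ℕ} (hr : r.Prime) (hrd : r ∣ H.relIndex P)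
    (hrmax : ∀ s : ℕ, s.Prime → s ∣ H.relIndex P → s ≤ r) :
    ∃ σ ∈ P, orderOf σ = r ∧ ∀ c ∈ P, c * σ * c⁻¹ ∉ H := by
  classical
  haveI := Fact.mk hr
  have hdP : H.relIndex P * Nat.card H = Nat.card P := by
    rw [Subgroup.relIndex, ← Subgroup.index_mul_card (H.subgroupOf P),
      Nat.card_congr (Subgroup.subgroupOfEquivOfLe hHP).toEquiv]
  have hA2 : 2 * Nat.card (alternatingGroup (Fin m)) = m.factorial := by
    haveI : Nontrivial (Fin m) := Fin.nontrivial_iff_two_le.2 (by omega)
    rw [Nat.card_eq_fintype_card, two_mul_card_alternatingGroup, Fintype.card_perm, Fintype.card_fin]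
  have hPm : Nat.card P ∣ m.factorial := by
    have := Subgroup.card_subgroup_dvd_card P
    rwa [Nat.card_eq_fintype_card (α := Perm (Fin m)), Fintype.card_perm, Fintype.card_fin] at this
  have hrP : r ∣ Nat.card P := hrd.trans ⟨_, hdP.symm⟩
  have hrm : r ≤ m := hr.dvd_factorial.1 (hrP.trans hPm)
  by_cases hrbig : m < 2 * r
  · -- `r` divides the order of `P` only once
    obtain ⟨σ, hσ⟩ := exists_prime_orderOf_dvd_card' r hrP
    refine ⟨σ, σ.2, by rw [Subgroup.orderOf_coe, hσ], fun c _ hc => ?_⟩
    have hrH : r ∣ Nat.card H := by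
      have : orderOf (⟨_, hc⟩ : H) = r := by
        rw [← Subgroup.orderOf_coe]
        show orderOf (MulAut.conj c (σ : Perm (Fin m))) = r
        rw [MulEquiv.orderOf_eq, Subgroup.orderOf_coe, hσ]
      exact this ▸ orderOf_dvd_natCard _
    have h2 : r ^ 2 ∣ m.factorial := by
      rw [sq]; exact (Nat.mul_dvd_mul hrd hrH).trans (by rw [hdP]; exact hPm)
    have := (hr.pow_dvd_iff_le_factorization m.factorial_ne_zero).1 h2
    rw [Nat.factorization_factorial hr (b := 2) (Nat.log_lt_of_lt_pow (by omega) (by nlinarith))] at this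
    rw [show Finset.Ico 1 2 = {1} from rfl, Finset.sum_singleton, pow_one] at this
    have : m / r < 2 := Nat.div_lt_of_lt_mul (by omega)
    omega
  obtain ⟨p, hp, hpl, hpu⟩ := Nat.exists_prime_lt_and_le_two_mul (m / 2) (by omega)
  haveI := Fact.mk hp
  -- `H` contains an element of order `p`
  obtain ⟨h, hh⟩ : ∃ h : H, orderOf h = p := by
    refine exists_prime_orderOf_dvd_card' p ?_
    have hpA : p ∣ Nat.card (alternatingGroup (Fin m)) := by
      have : p ∣ 2 * Nat.card (alternatingGroup (Fin m)) := by
        rw [hA2]; exact hp.dvd_factorial.2 (by omega)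
      refine (hp.dvd_mul.1 this).resolve_left fun h2 => ?_
      have := Nat.le_of_dvd two_pos h2
      omega
    have hpd : ¬ p ∣ H.relIndex P := fun hd => by have := hrmax p hp hd; omega
    exact (hp.dvd_mul.1 ((hdP.symm ▸ hpA.trans (Subgroup.card_dvd_of_le hP) :
      p ∣ H.relIndex P * Nat.card H))).resolve_left hpd
  have conjA : ∀ {σ : Perm (Fin m)}, σ ∈ alternatingGroup (Fin m) → ∀ c : Perm (Fin m),
      c * σ * c⁻¹ ∈ alternatingGroup (Fin m) := fun hσ c => (inferInstance :
        (alternatingGroup (Fin m)).Normal).conj_mem _ hσ c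
  by_cases htr : MulAction.IsPretransitive H (Fin m)
  · have hprim : MulAction.IsPreprimitive H (Fin m) := by
      by_contra hnp
      obtain ⟨B, hB, hBn⟩ : ∃ B : Set (Fin m), MulAction.IsBlock H B ∧ ¬ MulAction.IsTrivialBlock B := by
        by_contra hc
        push Not at hc
        exact hnp { isTrivialBlock_of_isBlock := fun {B} hB => hc B hB }
      rw [MulAction.IsTrivialBlock, not_or, Set.not_subsingleton_iff] at hBn
      have h2 : 1 < B.ncard := (Set.one_lt_ncard (Set.toFinite _)).2 hBn.1
      have hmul := hB.ncard_block_mul_ncard_orbit_eq hBn.1.nonempty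
      rw [Nat.card_eq_fintype_card, Fintype.card_fin] at hmul
      have hBm : B.ncard < m := by
        have := Set.ncard_lt_ncard (Set.ssubset_univ_iff.2 hBn.2) (Set.toFinite _)
        rwa [Set.ncard_univ, Nat.card_eq_fintype_card, Fintype.card_fin] at this
      have h3 : 1 < (MulAction.orbit H B).ncard := by
        by_contra hc
        interval_cases (MulAction.orbit H B).ncard <;> omega
      have h4 : B.ncard * 2 ≤ m := (Nat.mul_le_mul_left _ (show 2 ≤ _ from h3)).trans_eq hmul
      have h5 : 2 * (MulAction.orbit H B).ncard ≤ m :=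
        (Nat.mul_le_mul_right _ (show 2 ≤ _ from h2)).trans_eq hmul
      have : h = 1 := eq_one_of_block H hB hBn.1.nonempty hp (by omega) (by omega)
        (by rw [← hh]; exact pow_orderOf_eq_one h)
      rw [this, orderOf_one] at hh
      exact hp.ne_one hh.symm
    rcases hr.eq_two_or_odd' with rfl | hodd
    · -- the degree is a power of two, so `H` contains a 3-cycle
      exfalso
      obtain ⟨c, hc, -, hcard, hcA, -⟩ := Cfsg.Agent.Lib.HallSym.exists_prime_cycle (α := Fin m) (q := 3)
        Nat.prime_three (by norm_num) (D := Finset.univ) (by simp; omega)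
      have h3 : ¬ 3 ∣ H.relIndex P := fun hd => by have := hrmax 3 Nat.prime_three hd; omega
      haveI := Fact.mk Nat.prime_three
      obtain ⟨S⟩ : Nonempty (Sylow 3 (H.subgroupOf P)) := inferInstance
      have hc3 : IsPGroup 3 (Subgroup.zpowers (⟨c, hP hcA⟩ : P)) := by
        refine IsPGroup.of_card (n := 1) ?_
        rw [Nat.card_zpowers, ← Subgroup.orderOf_coe, hc.orderOf, hcard, pow_one]
      obtain ⟨Q, hQ⟩ := hc3.exists_le_sylow
      obtain ⟨T, hT⟩ := (IsPGroup.map S.2 (H.subgroupOf P).subtype).exists_le_sylow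
      obtain ⟨u, hu⟩ := MulAction.exists_smul_eq P Q T
      have hTH : (T : Subgroup P) ≤ H.subgroupOf P := by
        have hcardT : Nat.card (T : Subgroup P) = Nat.card (S : Subgroup (H.subgroupOf P)) := by
          rw [T.card_eq_multiplicity, S.card_eq_multiplicity]
          congr 1
          rw [← Subgroup.index_mul_card (H.subgroupOf P), Nat.factorization_mul
            Subgroup.index_ne_zero_of_finite Nat.card_pos.ne', Finsupp.add_apply,
            Nat.factorization_eq_zero_of_not_dvd (show ¬ 3 ∣ (H.subgroupOf P).index from h3), zero_add]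
        have heq : (S : Subgroup (H.subgroupOf P)).map (H.subgroupOf P).subtype = (T : Subgroup P) :=
          Subgroup.eq_of_le_of_card_ge hT (by rw [Subgroup.card_subtype, hcardT])
        rw [← heq]
        exact Subgroup.map_subtype_le _
      have hmem : u * ⟨c, hP hcA⟩ * u⁻¹ ∈ (T : Subgroup P) := by
        rw [← hu]
        exact Subgroup.smul_mem_pointwise_smul _ (MulAut.conj u) _ (hQ (Subgroup.mem_zpowers _))
      have hthree : ((u : Perm (Fin m)) * c * (u : Perm (Fin m))⁻¹).IsThreeCycle :=
        card_support_eq_three_iff.1 (by rw [Perm.card_support_conj, hcard])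
      exact hA (Equiv.Perm.alternatingGroup_le_of_isPreprimitive_of_isThreeCycle_mem hprim hthree (hTH hmem))
    · have h3 : 3 ≤ r := by rcases hodd with ⟨t, rfl⟩; have := hr.two_le; omega
      obtain ⟨σ, hσc, -, hσr, hσA, -⟩ := Cfsg.Agent.Lib.HallSym.exists_prime_cycle (α := Fin m) hr
        (by omega) (D := Finset.univ) (by simp; omega)
      refine ⟨σ, hP hσA, by rw [hσc.orderOf, hσr], fun c _ hc => hA ?_⟩
      exact Cfsg.Agent.S0713.result H hprim hr (by simp; omega) (by simp; omega) hσc.conj
        (by rw [Perm.card_support_conj, hσr]) hc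
  · -- an invariant set
    obtain ⟨a, b, hab⟩ : ∃ a b : Fin m, ∀ g : H, g • a ≠ b := by
      by_contra hc
      push Not at hc
      exact htr ⟨hc⟩
    obtain ⟨S, k, hSk, hk0, hk2, hinv⟩ : ∃ (S : Set (Fin m)) (k : ℕ), S.ncard = k ∧ 0 < k ∧
        2 * k ≤ m ∧ ∀ g ∈ H, g • S = S := by
      set O := MulAction.orbit H a with hO
      have hOinv : ∀ g ∈ H, g • O = O := fun g hg => MulAction.smul_orbit (⟨g, hg⟩ : H) a
      have hOc : ∀ g ∈ H, g • Oᶜ = Oᶜ := fun g hg => by rw [Set.smul_set_compl, hOinv g hg]
      have hne1 : 0 < O.ncard := (Set.ncard_pos (Set.toFinite _)).2 (MulAction.nonempty_orbit a)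
      have hne2 : 0 < Oᶜ.ncard :=
        (Set.ncard_pos (Set.toFinite _)).2 ⟨b, fun hbO => by obtain ⟨g, hg⟩ := hbO; exact hab g hg⟩
      have hsum := Set.ncard_add_ncard_compl O
      rw [Nat.card_eq_fintype_card, Fintype.card_fin] at hsum
      by_cases hle : 2 * O.ncard ≤ m
      · exact ⟨O, _, rfl, hne1, hle, hOinv⟩
      · exact ⟨Oᶜ, _, rfl, hne2, by omega, hOc⟩
    haveI : MulAction.IsPretransitive (alternatingGroup (Fin m)) (Set.powersetCard (Fin m) k) :=
      Set.powersetCard.isPretransitive_alternatingGroup (by simp; omega)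
    have move : ∀ T : Set (Fin m), T.ncard = k → ∃ g ∈ alternatingGroup (Fin m), g • S = T := by
      intro T hT
      obtain ⟨g, hg⟩ := MulAction.exists_smul_eq (alternatingGroup (Fin m))
        (⟨S.toFinite.toFinset, by rw [Set.powersetCard.mem_iff, ← Set.ncard_eq_toFinset_card S]; exact hSk⟩ :
          Set.powersetCard (Fin m) k)
        ⟨T.toFinite.toFinset, by rw [Set.powersetCard.mem_iff, ← Set.ncard_eq_toFinset_card T]; exact hT⟩
      refine ⟨g, g.2, ?_⟩
      have := congrArg (fun z : Set.powersetCard (Fin m) k => ((z : Finset (Fin m)) : Set (Fin m))) hg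
      simpa [Set.powersetCard.coe_smul, Finset.coe_smul_finset, Subgroup.smul_def] using this
    have hSC : S ≠ Sᶜ := fun e => by
      obtain ⟨x, hx⟩ := (Set.ncard_pos (Set.toFinite S)).1 (hSk ▸ hk0)
      exact (e ▸ hx : x ∈ Sᶜ) hx
    -- a third set of the same size
    obtain ⟨T, hTk, hTS, hTC⟩ : ∃ T : Set (Fin m), T.ncard = k ∧ T ≠ S ∧ T ≠ Sᶜ := by
      have hcard : 2 < Nat.card (Set.powersetCard (Fin m) k) := by
        rw [Set.powersetCard.card, Nat.card_eq_fintype_card, Fintype.card_fin]
        calc 2 < m := by omega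
          _ = m.choose 1 := (Nat.choose_one_right m).symm
          _ ≤ m.choose k := choose_one_le hk0 hk2
      by_contra hc
      push Not at hc
      let f : Set.powersetCard (Fin m) k → ({S, Sᶜ} : Set (Set (Fin m))) := fun z =>
        ⟨((z : Finset (Fin m)) : Set (Fin m)), by
          by_cases h1 : ((z : Finset (Fin m)) : Set (Fin m)) = S
          · exact Or.inl h1
          · exact Or.inr (hc _ (by rw [Set.ncard_coe_finset]; exact Set.powersetCard.mem_iff.1 z.2) h1)⟩
      have := Nat.card_le_card_of_injective f fun z w e =>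
        Subtype.ext (Finset.coe_injective (congrArg Subtype.val e))
      have h2 : Nat.card ({S, Sᶜ} : Set (Set (Fin m))) ≤ 2 := by
        rw [Nat.card_coe_set_eq]
        exact (Set.ncard_insert_le _ _).trans (by rw [Set.ncard_singleton])
      omega
    obtain ⟨g₃, hg₃, hg₃S⟩ := move T hTk
    -- the stabilizer of `S`
    set M : Subgroup (Perm (Fin m)) := P ⊓ MulAction.stabilizer (Perm (Fin m)) S with hM
    have hHM : H ≤ M := le_inf hHP fun g hg => MulAction.mem_stabilizer_iff.2 (hinv g hg)
    have hMH : M = H := hmax M hHM inf_le_left fun e => hTS (by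
      have : g₃ ∈ M := by rw [e]; exact hP hg₃
      rw [← hg₃S]; exact MulAction.mem_stabilizer_iff.1 this.2)
    have hk2' : 2 * k < m := by
      rcases hk2.lt_or_eq with h | h
      · exact h
      exfalso
      let K : Subgroup (Perm (Fin m)) := MulAction.stabilizer (Perm (Fin m)) ({S, Sᶜ} : Set (Set (Fin m)))
      have hK : P ⊓ K = H := hmax _ (le_inf hHP fun g hg => MulAction.mem_stabilizer_iff.2 (by
        rw [Set.smul_set_insert, Set.smul_set_singleton, Set.smul_set_compl, hinv g hg])) inf_le_left
        fun e => by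
          have hmem : g₃ ∈ P ⊓ K := by rw [e]; exact hP hg₃
          have h1 : g₃ • S ∈ g₃ • ({S, Sᶜ} : Set (Set (Fin m))) :=
            Set.smul_mem_smul_set (Set.mem_insert _ _)
          rw [MulAction.mem_stabilizer_iff.1 hmem.2, hg₃S] at h1
          rcases h1 with h1 | h1
          · exact hTS h1
          · exact hTC h1
      obtain ⟨g, hg, hgS⟩ := move Sᶜ (by
        have := Set.ncard_add_ncard_compl S
        rw [Nat.card_eq_fintype_card, Fintype.card_fin] at this
        omega)
      have hgK : g ∈ P ⊓ K := ⟨hP hg, MulAction.mem_stabilizer_iff.2 (by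
        rw [Set.smul_set_insert, Set.smul_set_singleton, Set.smul_set_compl, hgS, compl_compl,
          Set.pair_comm])⟩
      rw [hK, ← hMH] at hgK
      exact hSC ((MulAction.mem_stabilizer_iff.1 hgK.2).symm.trans hgS)
    have hidx : H.relIndex P = m.choose k := by
      haveI : MulAction.IsPretransitive P (Set.powersetCard (Fin m) k) := ⟨fun x y => by
        obtain ⟨g, hg⟩ := MulAction.exists_smul_eq (alternatingGroup (Fin m)) x y
        exact ⟨⟨g, hP g.2⟩, hg⟩⟩
      let s : Set.powersetCard (Fin m) k :=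
        ⟨S.toFinite.toFinset, by rw [Set.powersetCard.mem_iff, ← Set.ncard_eq_toFinset_card S]; exact hSk⟩
      have : H.subgroupOf P = MulAction.stabilizer P s := by
        ext g
        rw [Subgroup.mem_subgroupOf, ← hMH, MulAction.mem_stabilizer_iff, Subtype.ext_iff]
        simp only [hM, Subgroup.mem_inf, MulAction.mem_stabilizer_iff, g.2, true_and, s]
        rw [← Finset.coe_inj]
        simp [Set.powersetCard.coe_smul, Finset.coe_smul_finset, Subgroup.smul_def]
      rw [Subgroup.relIndex, this, MulAction.index_stabilizer_of_transitive, Set.powersetCard.card,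
        Nat.card_eq_fintype_card, Fintype.card_fin]
    obtain ⟨q, hq, hqk, hqd⟩ := Cfsg.Agent.Lib.SylvesterSchur.exists_prime_gt_dvd_choose hk0 hk2
    have hkr : k < r := hqk.trans_le (hrmax q hq (hidx ▸ hqd))
    have hmod := mod_lt_of_dvd_choose hr hkr (hidx ▸ hrd)
    have hdiv := Nat.div_add_mod m r
    have hapos : 1 ≤ m / r := Nat.div_pos (by omega) hr.pos
    obtain ⟨σ, hσ⟩ : ∃ σ : Perm (Fin m), σ.cycleType = Multiset.replicate (m / r) r := by
      rw [Equiv.Perm.exists_with_cycleType_iff]
      refine ⟨?_, fun a ha => by rw [Multiset.eq_of_mem_replicate ha]; exact hr.two_le⟩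
      rw [Multiset.sum_replicate, Fintype.card_fin, smul_eq_mul]
      exact Nat.div_mul_le_self m r
    have hev : Even ((m / r) * r + m / r) := by
      rcases hr.eq_two_or_odd' with h2 | hodd
      · subst h2
        have hk1 : k = 1 := by omega
        have hm2 : m % 2 = 0 := by omega
        rcases Nat.even_or_odd (m / 2) with he | ho
        · exact (he.mul_right 2).add he
        exfalso
        obtain ⟨q', hq', hqd'⟩ := Nat.exists_prime_and_dvd (show m / 2 ≠ 1 by omega)
        have : q' ≤ 2 := hrmax q' hq' (by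
          rw [hidx, hk1, Nat.choose_one_right]
          exact hqd'.trans (Nat.div_dvd_of_dvd (Nat.dvd_of_mod_eq_zero hm2)))
        have hq2 : q' = 2 := le_antisymm this hq'.two_le
        exact (Nat.not_even_iff_odd.2 ho) (even_iff_two_dvd.2 (hq2 ▸ hqd'))
      · rw [← Nat.mul_succ]
        exact Nat.even_mul.2 (Or.inr hodd.add_one)
    have hσA : σ ∈ alternatingGroup (Fin m) := by
      rw [Perm.mem_alternatingGroup, Perm.sign_of_cycleType, hσ, Multiset.sum_replicate,
        Multiset.card_replicate, smul_eq_mul, hev.neg_one_pow]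
    have hord : orderOf σ = r := by
      refine orderOf_eq_prime ?_ ?_
      · refine orderOf_dvd_iff_pow_eq_one.1 ?_
        rw [← Perm.lcm_cycleType, hσ]
        exact Multiset.lcm_dvd.2 fun a ha => (Multiset.eq_of_mem_replicate ha).symm ▸ dvd_rfl
      · rintro rfl
        have := congrArg Multiset.card hσ
        rw [Perm.cycleType_one, Multiset.card_zero, Multiset.card_replicate] at this
        omega
    refine ⟨σ, hP hσA, hord, fun c _ hc => ?_⟩
    set τ := c * σ * c⁻¹ with hτ
    have hτS : τ • S = S := hinv τ hc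
    have hτr : τ ^ r = 1 := by rw [hτ, conj_pow, ← hord, pow_orderOf_eq_one, mul_one, mul_inv_cancel]
    have hτi : ∀ i : ℕ, τ ^ i • S = S := fun i => by
      induction i with
      | zero => simp
      | succ i ih => rw [pow_succ, mul_smul, hτS, ih]
    have hfix : S ⊆ ((τ.support : Finset (Fin m)) : Set (Fin m))ᶜ := by
      intro x hx hxs
      refine absurd (le_ncard_of_smul_ne hr hτr (Perm.mem_support.1 hxs) S.toFinite fun i => ?_)
        (not_le.2 (hSk ▸ hkr))
      rw [← hτi i]
      exact Set.smul_mem_smul_set hx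
    have := Set.ncard_le_ncard hfix (Set.toFinite _)
    rw [hSk, Set.ncard_compl, Set.ncard_coe_finset, hτ, Perm.card_support_conj, ← Perm.sum_cycleType, hσ,
      Multiset.sum_replicate, Nat.card_eq_fintype_card, Fintype.card_fin, smul_eq_mul] at this
    rw [mul_comm] at hdiv
    omega

end Cfsg.Agent.Lib.AltDerange
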