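import Mathlib

/-!
# Derangements of largest prime order for the alternating group of degree six
-/

set_option autoImplicit false
set_option linter.style.haveILetI false

open Equiv

namespace Cfsg.Agent.Lib.AltDerange

theorem no_order_fifteen (σ : Perm (Fin 6)) : orderOf σ ≠ 15 := by
  intro h
  rw [← Perm.lcm_cycleType] at h
  have hsum : σ.cycleType.sum ≤ 6 := by
    rw [Perm.sum_cycleType]; exact (Finset.card_le_univ _).trans (by simp)
  obtain ⟨c, hc, hc5⟩ : ∃ c ∈ σ.cycleType, 5 ∣ c := by
    by_contra hcon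
    push Not at hcon
    have : ∀ s : Multiset ℕ, (∀ c ∈ s, ¬ 5 ∣ c) → ¬ 5 ∣ s.lcm := by
      intro s
      induction s using Multiset.induction with
      | empty => simp
      | cons a t ih =>
        intro hs h5
        rw [Multiset.lcm_cons, lcm_eq_nat_lcm] at h5
        rcases (Nat.prime_five.dvd_mul).1 (h5.trans (Nat.lcm_dvd_mul a t.lcm)) with h' | h'
        · exact hs a (Multiset.mem_cons_self a t) h'
        · exact ih (fun c hc => hs c (Multiset.mem_cons_of_mem hc)) h'
    exact this _ hcon (by rw [h]; norm_num)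
  obtain ⟨t, ht⟩ := Multiset.exists_cons_of_mem hc
  have hc2 := Perm.two_le_of_mem_cycleType hc
  have hc6 : c ≤ 6 := (Multiset.le_sum_of_mem hc).trans hsum
  have hc5' : c = 5 := by omega
  rw [ht, Multiset.sum_cons, hc5'] at hsum
  have ht0 : t = 0 := by
    refine Multiset.eq_zero_of_forall_notMem fun a ha => ?_
    have := Perm.two_le_of_mem_cycleType (ht ▸ Multiset.mem_cons_of_mem ha : a ∈ σ.cycleType)
    have := Multiset.le_sum_of_mem ha
    omega
  rw [ht, ht0, hc5'] at h
  simp at h

theorem no_subgroup_fifteen {G : Type*} [Group G] [Finite G] (hG : ∀ g : G, orderOf g ≠ 15)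
    (hcard : Nat.card G = 15 ∨ Nat.card G = 45) : False := by
  haveI : Fact (Nat.Prime 5) := ⟨Nat.prime_five⟩
  haveI : Fact (Nat.Prime 3) := ⟨Nat.prime_three⟩
  obtain ⟨S⟩ : Nonempty (Sylow 5 G) := inferInstance
  have hidx : (S : Subgroup G).index * Nat.card (S : Subgroup G) = Nat.card G := Subgroup.index_mul_card _
  have hS5 : Nat.card (S : Subgroup G) = 5 := by
    rw [S.card_eq_multiplicity]
    rcases hcard with h | h <;> rw [h]
    · rw [show (15 : ℕ) = 5 * 3 by norm_num, Nat.factorization_mul (by norm_num) (by norm_num),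
        Finsupp.add_apply, Nat.prime_five.factorization_self,
        Nat.factorization_eq_zero_of_not_dvd (by norm_num : ¬ 5 ∣ 3)]
      norm_num
    · rw [show (45 : ℕ) = 5 * 9 by norm_num, Nat.factorization_mul (by norm_num) (by norm_num),
        Finsupp.add_apply, Nat.prime_five.factorization_self,
        Nat.factorization_eq_zero_of_not_dvd (by norm_num : ¬ 5 ∣ 9)]
      norm_num
  have hn1 : Nat.card (Sylow 5 G) = 1 := by
    have h1 : Nat.card (Sylow 5 G) ∣ (S : Subgroup G).index := S.card_dvd_index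
    have h2 : Nat.card (Sylow 5 G) % 5 = 1 := card_sylow_modEq_one 5 G
    rw [hS5] at hidx
    have h3 : Nat.card (Sylow 5 G) ∣ 9 := by
      refine h1.trans ?_
      rcases hcard with h | h <;> rw [h] at hidx
      · rw [show (S : Subgroup G).index = 3 by omega]; norm_num
      · rw [show (S : Subgroup G).index = 9 by omega]
    have := Nat.le_of_dvd (by norm_num) h3
    interval_cases (Nat.card (Sylow 5 G)) <;> omega
  haveI : Subsingleton (Sylow 5 G) := (Nat.card_eq_one_iff_unique.1 hn1).1
  have hnorm : (S : Subgroup G).Normal := Sylow.normal_of_subsingleton S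
  obtain ⟨a, ha⟩ := exists_prime_orderOf_dvd_card' 3 (show 3 ∣ Nat.card G by
    rcases hcard with h | h <;> rw [h] <;> norm_num)
  obtain ⟨b, hb⟩ := exists_prime_orderOf_dvd_card' (G := (S : Subgroup G)) 5 (by rw [hS5])
  have hgen : ∀ y ∈ (S : Subgroup G), y ∈ Subgroup.zpowers (b : G) := by
    intro y hy
    have : Subgroup.zpowers (b : G) = (S : Subgroup G) := Subgroup.eq_of_le_of_card_ge
      (by rw [Subgroup.zpowers_le]; exact b.2) (by rw [Nat.card_zpowers, Subgroup.orderOf_coe, hb, hS5])
    rw [this]; exact hy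
  have hb5 : orderOf (b : G) = 5 := by rw [Subgroup.orderOf_coe, hb]
  obtain ⟨e, he⟩ : ∃ e : ℕ, (b : G) ^ e = a * b * a⁻¹ := by
    have := hgen _ (hnorm.conj_mem _ b.2 a)
    rw [← mem_powers_iff_mem_zpowers] at this
    exact this
  have hpow : ∀ i : ℕ, a ^ i * b * (a ^ i)⁻¹ = (b : G) ^ (e ^ i) := by
    intro i
    induction i with
    | zero => simp
    | succ i ih =>
      calc a ^ (i + 1) * b * (a ^ (i + 1))⁻¹ = a * (a ^ i * b * (a ^ i)⁻¹) * a⁻¹ := by
            rw [pow_succ']; group
        _ = _ := by rw [ih, ← conj_pow, ← he, ← pow_mul, ← pow_succ']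
  have h3 := hpow 3
  have ha3 : a ^ 3 = 1 := by rw [← ha]; exact pow_orderOf_eq_one a
  rw [ha3] at h3
  simp only [one_mul, inv_one, mul_one] at h3
  have hmod : e ^ 3 % 5 = 1 := by
    have := pow_mod_orderOf (b : G) (e ^ 3)
    rw [hb5, ← h3] at this
    have h' : (b : G) ^ (e ^ 3 % 5) = (b : G) ^ 1 := by rw [this, pow_one]
    have hlt : e ^ 3 % 5 < 5 := Nat.mod_lt _ (by norm_num)
    exact (pow_injOn_Iio_orderOf (x := (b : G)) (by rw [hb5]; exact hlt) (by rw [hb5]; norm_num) h')
  have he1 : e % 5 = 1 := by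
    have h5 : e % 5 < 5 := Nat.mod_lt _ (by norm_num)
    rw [Nat.pow_mod] at hmod
    have key : ∀ x < 5, x ^ 3 % 5 = 1 → x = 1 := by decide
    exact key _ h5 hmod
  have hcomm : Commute a (b : G) := by
    have : (b : G) ^ e = b := by rw [← pow_mod_orderOf, hb5, he1, pow_one]
    rw [this] at he
    calc a * b = a * b * a⁻¹ * a := by group
      _ = b * a := by rw [← he]
  refine hG (a * b) ?_
  rw [hcomm.orderOf_mul_eq_mul_orderOf_of_coprime (by rw [ha, hb5]; norm_num), ha, hb5]

/-- A transitive faithful action of `A_6` has a derangement of the largest prime order. -/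
theorem exists_derangement_six {T Ω : Type*} [Group T] [Finite T] [MulAction T Ω] [FaithfulSMul T Ω]
    [Finite Ω] [MulAction.IsPretransitive T Ω] (e : T ≃* alternatingGroup (Fin 6)) (hΩ : 2 ≤ Nat.card Ω)
    {r : ℕ} (hr : r.Prime) (hrd : r ∣ Nat.card Ω)
    (hmax : ∀ s : ℕ, s.Prime → s ∣ Nat.card Ω → s ≤ r) :
    ∃ g : T, orderOf g = r ∧ ∀ ω : Ω, g • ω ≠ ω := by
  classical
  haveI := Fact.mk hr
  haveI : Nonempty Ω := (Nat.card_pos_iff.1 (by omega)).1
  obtain ⟨ω₀⟩ := ‹Nonempty Ω›
  have hT : Nat.card T = 360 := by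
    rw [Nat.card_congr e.toEquiv, Nat.card_eq_fintype_card]
    have := two_mul_card_alternatingGroup (α := Fin 6)
    rw [Fintype.card_perm, Fintype.card_fin] at this
    norm_num [Nat.factorial] at this ⊢
    omega
  have hG15 : ∀ g : T, orderOf g ≠ 15 := fun g => by
    rw [← MulEquiv.orderOf_eq e g, ← Subgroup.orderOf_coe]
    exact no_order_fifteen _
  set M := MulAction.stabilizer T ω₀ with hM
  have hidx : Nat.card Ω * Nat.card M = 360 := by
    rw [← MulAction.index_stabilizer_of_transitive T ω₀, Subgroup.index_mul_card, hT]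
  have hsimple : IsSimpleGroup T := by
    haveI := alternatingGroup.isSimpleGroup (α := Fin 6) (by simp)
    exact e.isSimpleGroup
  have hrT : r ∣ Nat.card T := by rw [hT, ← hidx]; exact hrd.mul_right _
  by_cases hrM : r ∣ Nat.card M
  swap
  · obtain ⟨g, hg⟩ := exists_prime_orderOf_dvd_card' r hrT
    refine ⟨g, hg, fun ω hω => ?_⟩
    obtain ⟨c, hc⟩ := MulAction.exists_smul_eq T ω ω₀
    have hmem : c * g * c⁻¹ ∈ M := by
      rw [MulAction.mem_stabilizer_iff, ← hc, smul_smul, inv_mul_cancel_right, mul_smul, hω]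
    refine hrM ?_
    have : orderOf (⟨_, hmem⟩ : M) = r := by
      rw [← Subgroup.orderOf_coe]
      show orderOf (MulAut.conj c g) = r
      rw [MulEquiv.orderOf_eq, hg]
    exact this ▸ orderOf_dvd_natCard _
  have hd6 : 6 ≤ Nat.card Ω := by
    by_contra hlt
    have hinj : Function.Injective (MulAction.toPermHom T Ω) := MulAction.toPerm_injective
    have := Subgroup.card_dvd_of_injective _ hinj
    rw [hT, Nat.card_perm] at this
    have := Nat.le_of_dvd (Nat.factorial_pos _) this
    have h5 : (Nat.card Ω).factorial ≤ Nat.factorial 5 := Nat.factorial_le (by omega)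
    norm_num [Nat.factorial] at h5
    omega
  have hsq : r * r ∣ 360 := by rw [← hidx]; exact Nat.mul_dvd_mul hrd hrM
  have hr3 : r ≤ 3 := by
    by_contra hc
    have h19 : r < 19 := by
      by_contra h'
      have := Nat.le_of_dvd (by norm_num) hsq
      nlinarith
    interval_cases r <;> revert hr hsq <;> norm_num
  have h5 : ¬ 5 ∣ Nat.card Ω := fun h => by have := hmax 5 Nat.prime_five h; omega
  obtain ⟨d, hd⟩ : ∃ d, Nat.card Ω = d := ⟨_, rfl⟩
  rw [hd] at hidx hd6 h5 hrd
  have hMdiv : d ∣ 360 := ⟨_, hidx.symm⟩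
  have hd360 : d ≤ 360 := Nat.le_of_dvd (by norm_num) hMdiv
  have hr2 := hr.two_le
  have h3r : 3 ∣ d → r = 3 := fun h => le_antisymm hr3 (hmax 3 Nat.prime_three (hd ▸ h))
  have h2r : ¬ 3 ∣ d → r = 2 := fun h => by
    interval_cases r
    · rfl
    · exact absurd hrd h
  have hcases : d = 6 ∨ d = 8 ∨ d = 12 ∨ d = 24 := by
    have hdiv : d ∈ Nat.divisors 360 := Nat.mem_divisors.2 ⟨hMdiv, by norm_num⟩
    by_contra hne
    push Not at hne
    obtain ⟨n6, n8, n12, n24⟩ := hne
    have hall : ∀ x ∈ Nat.divisors 360, 6 ≤ x → ¬ 5 ∣ x → x = 6 ∨ x = 8 ∨ x = 9 ∨ x = 12 ∨ x = 18 ∨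
        x = 24 ∨ x = 36 ∨ x = 72 := by decide
    rcases hall d hdiv hd6 h5 with h | h | h | h | h | h | h | h <;> subst h <;>
      first
        | omega
        | (have := h3r (by norm_num); subst this; omega)
  rcases hcases with h | h | h | h <;> subst h
  · -- six points: use an element with two cycles of length three
    obtain rfl : r = 3 := h3r (by norm_num)
    haveI := Fintype.ofFinite Ω
    haveI : Nontrivial Ω := Finite.one_lt_card_iff_nontrivial.1 (by omega)
    have hinj : Function.Injective (MulAction.toPermHom T Ω) := MulAction.toPerm_injective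
    have hrange : (MulAction.toPermHom T Ω).range = alternatingGroup Ω := by
      refine Perm.eq_alternatingGroup_of_index_eq_two ?_
      have h1 := Subgroup.index_mul_card (MulAction.toPermHom T Ω).range
      rw [show Nat.card (MulAction.toPermHom T Ω).range = 360 from by
        rw [← Nat.card_congr (MonoidHom.ofInjective hinj).toEquiv, hT], Nat.card_perm, hd] at h1
      norm_num [Nat.factorial] at h1
      omega
    obtain ⟨σ, hσ⟩ : ∃ σ : Perm Ω, σ.cycleType = {3, 3} := by
      rw [Perm.exists_with_cycleType_iff]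
      refine ⟨?_, by simp⟩
      rw [← Nat.card_eq_fintype_card, hd]
      simp
    have hσA : σ ∈ alternatingGroup Ω := by
      rw [Perm.mem_alternatingGroup, Perm.sign_of_cycleType, hσ]
      rfl
    obtain ⟨g, hg⟩ := hrange ▸ hσA
    refine ⟨g, ?_, fun ω hω => ?_⟩
    · rw [← orderOf_injective _ hinj g, hg, ← Perm.lcm_cycleType, hσ]
      simp
    · have hsupp : σ.support = Finset.univ := by
        refine Finset.eq_univ_of_card _ ?_
        rw [← Perm.sum_cycleType, hσ, ← Nat.card_eq_fintype_card, hd]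
        simp
      have : σ ω ≠ ω := Perm.mem_support.1 (hsupp ▸ Finset.mem_univ ω)
      rw [← hg] at this
      exact this hω
  · exact (no_subgroup_fifteen (G := M) (fun g => by rw [← Subgroup.orderOf_coe]; exact hG15 _)
      (Or.inr (by omega))).elim
  · -- a subgroup of order thirty has one of order fifteen
    exfalso
    haveI : Fact (Nat.Prime 2) := ⟨Nat.prime_two⟩
    have hM30 : Nat.card M = 30 := by omega
    obtain ⟨S⟩ : Nonempty (Sylow 2 M) := inferInstance
    have hS2 : Nat.card (S : Subgroup M) = 2 := by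
      rw [S.card_eq_multiplicity, hM30, show (30 : ℕ) = 2 * 15 by norm_num,
        Nat.factorization_mul (by norm_num) (by norm_num), Finsupp.add_apply,
        Nat.prime_two.factorization_self, Nat.factorization_eq_zero_of_not_dvd (by norm_num : ¬ 2 ∣ 15)]
      norm_num
    have hcyc : IsCyclic (S : Subgroup M) := isCyclic_of_prime_card (p := 2) hS2
    have hmin : (Nat.card M).minFac = 2 := by rw [hM30]; norm_num
    have hcompl := IsCyclic.isComplement' hmin hcyc
    have hK := hcompl.card_mul_card
    rw [hS2, hM30] at hK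
    refine no_subgroup_fifteen (G := (MonoidHom.transferSylow S
      (hcyc.normalizer_le_centralizer hmin)).ker) (fun g => ?_) (Or.inl (by omega))
    rw [← Subgroup.orderOf_coe, ← Subgroup.orderOf_coe]
    exact hG15 _
  · exact (no_subgroup_fifteen (G := M) (fun g => by rw [← Subgroup.orderOf_coe]; exact hG15 _)
      (Or.inl (by omega))).elim

end Cfsg.Agent.Lib.AltDerange
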